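import Cfsg.Agent.Sg.Af
import Cfsg.Agent.Sg.Pt
import Cfsg.Agent.Sg.Fr
import Cfsg.Agent.Sg.Iib
import Cfsg.Agent.Sg.IIa
import Cfsg.Agent.Sg.Poly
import Cfsg.Agent.Sg.St
import Cfsg.Agent.SG.Zsig

set_option autoImplicit false
open Module Submodule

namespace Cfsg.Agent.Sg

variable {F V V' G : Type*} [Field F] [Fintype F] [AddCommGroup V] [Module F V] [Module.Finite F V]
  [AddCommGroup V'] [Module F V'] [Module.Finite F V'] [Group G] [Finite G]
  {ρ : Representation F G V} {ρ' : Representation F G V'} {B : V →ₗ[F] V' →ₗ[F] F}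

/-- one side of the main argument -/
theorem half (h : Ctx ρ ρ' B) (hi : Function.Injective ρ) (hp : PT ρ') {n : ℕ}
    (hn : finrank F V = n) (hpr : n.Prime) (h13 : 13 ≤ n) {c c' : ℕ}
    {W : V → V → Submodule F V} {T : V → V' → Submodule F V}
    {W' : V' → V' → Submodule F V'} {T' : V' → V → Submodule F V'} (hW : WS ρ c W)
    (hT : TS ρ ρ' B c W T) (hW' : WS ρ' c' W') (hT' : TS ρ' ρ B.flip c' W' T')
    (h3 : n ≤ 3 * c') (hcc : c' ≤ c)
    (tri : Spread F W ∨ ∃ j, 1 ≤ j ∧ finrank F V = 2 * c + j + 1)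
    (sp : Spread F W → Odd (finrank F V) → 3 ≤ c → ∀ {r : ℕ}, r.Prime →
      IsPrimitiveRoot (Fintype.card F : ZMod r) c → ∀ {x y : V}, Ind2 F x y →
      ∀ {C : Submodule F V} {z : G}, FRD ρ (W x y) C z r → CC ρ) : CC ρ := by
  have hodd : Odd n := hpr.odd_of_ne_two (by omega)
  rcases tri with hs | ⟨j, hj, e⟩
  · have h4 := st hW hs (by omega)
    obtain ⟨r, hr, hq⟩ := SG.zsig (q := Fintype.card F) (n := c) Fintype.one_lt_card (by omega)
      (by omega)
    obtain ⟨x, hx⟩ : ∃ u : V, u ≠ 0 := finrank_pos_iff_exists_ne_zero.1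
      (show 0 < finrank F V by omega)
    obtain ⟨y, hy⟩ : ∃ y, y ∉ span F {x} := by
      by_contra hc
      push Not at hc
      have := finrank_span_singleton (K := F) hx
      rw [Submodule.eq_top_iff'.2 hc, finrank_top] at this
      omega
    obtain ⟨C, z, hz⟩ := fr hi h.sc hW (by omega) (by omega) hr hq ⟨hx, hy⟩
    exact sp hs (hn ▸ hodd) (by omega) hr hq ⟨hx, hy⟩ hz
  · obtain ⟨m, hm⟩ := hodd
    obtain ⟨h5, h6⟩ := iia h hW hT hW' hT' e (by omega) (by omega) (by omega) hcc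
    exact (iib h hW hT hp (by omega) h6).elim

end Cfsg.Agent.Sg
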