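import Cfsg.Agent.Sg.Sp2

/-! The Steiner system case with blocks of dimension at least three. -/

set_option autoImplicit false
open Module Submodule

namespace Cfsg.Agent.Sg
namespace Sp3
open Fr Sp2

variable {F V G : Type*} [Field F] [Fintype F] [AddCommGroup V] [Module F V] [Module.Finite F V]
  [Group G] [Finite G] {ρ : Representation F G V}

/-- the hypotheses, under the assumption that there is no central collineation -/
structure Hy (ρ : Representation F G V) (c : ℕ) (W : V → V → Submodule F V) (x y : V)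
    (C : Submodule F V) (z : G) (r : ℕ) : Prop where
  hi : Function.Injective ρ
  t2 : T2 ρ
  ws : WS ρ c W
  sp : Spread F W
  xy : Ind2 F x y
  fr : FRD ρ (W x y) C z r
  ncc : ¬ CC ρ
  c0 : C ≠ ⊥
  k3 : c + 3 ≤ finrank F V

variable {c : ℕ} {W : V → V → Submodule F V} {x y : V} {C : Submodule F V} {z : G} {r : ℕ}

/-- the normaliser of the configuration -/
def NN (ρ : Representation F G V) (Bl C : Submodule F V) (z : G) : Subgroup G :=
  stabS ρ Bl ⊓ stabS ρ C ⊓ Subgroup.normalizer (Subgroup.zpowers z : Set G)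

omit [Fintype F] [Module.Finite F V] [Finite G] in
theorem NN.conj {Bl : Submodule F V} {g : G} (hg : g ∈ NN ρ Bl C z) :
    g * z * g⁻¹ ∈ Subgroup.zpowers z :=
  (Subgroup.mem_normalizer_iff.1 hg.2 z).1 (Subgroup.mem_zpowers z)

omit [Fintype F] [Module.Finite F V] [Finite G] in
theorem Hy.third (h : Hy ρ c W x y C z r) {a b : V} (hab : Ind2 F a b) :
    ∃ v ∈ W a b, v ∉ span F {a, b} := by
  by_contra hn
  push Not at hn
  haveI : Module.Finite F (span F {a, b} : Submodule F V) :=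
    Module.Finite.span_of_finite F (Set.toFinite _)
  have h1 : finrank F (W a b) ≤ finrank F (span F {a, b} : Submodule F V) :=
    Submodule.finrank_mono hn
  have h2 := h.ws.rank a b hab
  have h3 := h.k3
  rw [finrank_pair hab] at h1
  omega

omit [Fintype F] [Module.Finite F V] in
theorem Hy.mv0 (h : Hy ρ c W x y C z r) {b u b' u' : V} (hb : b ∈ W x y) (hu : u ∈ W x y)
    (hb' : b' ∈ W x y) (hu' : u' ∈ W x y) (i1 : Ind2 F b u) (i2 : Ind2 F b' u') :
    ∃ g ∈ NN ρ (W x y) C z, ρ g b = b' ∧ ∃ a : F, a ≠ 0 ∧ ρ g u = a • u' := by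
  obtain ⟨g, g1, g2⟩ := h.t2 b u b' u' i1 i2
  obtain ⟨a, ha⟩ := mem_span_singleton.1 g2
  have i3 := ind2_map (ρ := ρ) i1 g
  have h1 : ∀ v ∈ W x y, ρ g v ∈ W x y := by
    intro v hv
    have e1 := h.sp x y b u h.xy i1 hb hu
    have e2 := h.sp x y _ _ h.xy i3 (g1 ▸ hb') (ha ▸ smul_mem _ _ hu')
    rw [← e2, h.ws.equi g b u i1, e1]
    exact ⟨v, hv, rfl⟩
  obtain ⟨g', e1, e2, e3⟩ := h.fr.frat g h1
  refine ⟨g', ⟨⟨mem_stabS fun v hv => ?_, mem_stabS e2⟩, ?_⟩, by rw [e1 b hb, g1], a, ?_,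
    by rw [e1 u hu, ha]⟩
  · rw [e1 v hv]; exact h1 v hv
  · refine Subgroup.mem_normalizer_fintype ?_
    rintro _ ⟨i, rfl⟩
    rw [← conj_zpow]
    exact Subgroup.zpow_mem _ e3 i
  · rintro rfl
    apply i3.2
    rw [← ha, zero_smul]
    exact zero_mem _

omit [Fintype F] [Module.Finite F V] [Finite G] in
theorem Hy.ind (h : Hy ρ c W x y C z r) {w : V} (hw : w ∈ C) (h0 : w ≠ 0) : Ind2 F x w :=
  ⟨h.xy.1, fun e => h0 ((disjoint_def.1 h.fr.compl.disjoint) w
    ((span_singleton_le_iff_mem x _).2 (h.ws.left x y h.xy) e) hw)⟩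

omit [Fintype F] [Module.Finite F V] [Finite G] in
theorem Hy.inter (h : Hy ρ c W x y C z r) {w v : V} (hw : w ∈ C) (h0 : w ≠ 0) (hv : v ∈ W x w)
    (hv' : v ∈ W x y) : v ∈ span F {x} := by
  by_contra hn
  have i1 := h.ind hw h0
  have e1 := h.sp x w x v i1 ⟨h.xy.1, hn⟩ (h.ws.left _ _ i1) hv
  have e2 := h.sp x y x v h.xy ⟨h.xy.1, hn⟩ (h.ws.left _ _ h.xy) hv'
  exact h0 ((disjoint_def.1 h.fr.compl.disjoint) w (e2 ▸ e1 ▸ h.ws.right _ _ i1) hw)

omit [Fintype F] [Module.Finite F V] [Finite G] in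
theorem Hy.dec (h : Hy ρ c W x y C z r) (v : V) : ∃ b ∈ W x y, ∃ w ∈ C, b + w = v :=
  Submodule.mem_sup.1 (h.fr.compl.sup_eq_top ▸ Submodule.mem_top (x := v))

omit [Fintype F] [Module.Finite F V] in
theorem Hy.triv (h : Hy ρ c W x y C z r) {g : G} (hB : ∀ v ∈ W x y, ρ g v ∈ W x y)
    (hx : ρ g x = x) (hC : ∀ v ∈ C, ρ g v = v) : g = 1 := by
  have hx0 := h.ws.left x y h.xy
  have hy0 := h.ws.right x y h.xy
  by_cases hS : ∃ β ∈ W x y, β ∉ span F {x} ∧ ∃ w ∈ C, w ≠ 0 ∧ ∃ γ ∈ C, β + γ ∈ W x w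
  · obtain ⟨β, hβ, hβ', w, hw, hw0, γ, hγ, hm⟩ := hS
    have key : ∀ v, ρ g v - v ∈ span F {x} := by
      intro v
      obtain ⟨b, hb, u, hu, rfl⟩ := h.dec v
      rw [map_add, hC u hu, add_sub_add_right_eq_sub]
      by_cases hb' : b ∈ span F {x}
      · obtain ⟨a, rfl⟩ := mem_span_singleton.1 hb'
        rw [map_smul, hx, sub_self]
        exact zero_mem _
      obtain ⟨n, hn, n1, a, ha0, n2⟩ := h.mv0 hx0 hβ hx0 hb ⟨h.xy.1, hβ'⟩ ⟨h.xy.1, hb'⟩
      have i1 := h.ind hw hw0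
      have hw' : ρ n w ∈ C := (hn.1.2 w).1 hw
      have hw0' : ρ n w ≠ 0 := fun e => (ind2_map (ρ := ρ) i1 n).2 (e ▸ zero_mem _)
      have i2 := h.ind hw' hw0'
      have h1 : a • b + ρ n γ ∈ W x (ρ n w) := by
        have := h.ws.equi n x w i1
        rw [n1] at this
        rw [this, ← n2, ← map_add]
        exact ⟨_, hm, rfl⟩
      have h2 : ρ g (a • b + ρ n γ) ∈ W x (ρ n w) := by
        have := h.ws.equi g x _ i2
        rw [hx, hC _ hw'] at this
        rw [this]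
        exact ⟨_, h1, rfl⟩
      have h3 := sub_mem h2 h1
      rw [map_add, hC _ ((hn.1.2 γ).1 hγ), add_sub_add_right_eq_sub, map_smul, ← smul_sub] at h3
      have h4 := h.inter hw' hw0' h3 (smul_mem _ _ (sub_mem (hB b hb) hb))
      exact (Submodule.smul_mem_iff _ ha0).1 h4
    let f : V →ₗ[F] F := (LinearEquiv.toSpanNonzeroSingleton F V x h.xy.1).symm.toLinearMap ∘ₗ
      (ρ g - 1).codRestrict (span F {x}) key
    have hf : ∀ v, ρ g v = (1 : F) • v + f v • x := by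
      intro v
      have := congrArg Subtype.val ((LinearEquiv.toSpanNonzeroSingleton F V x h.xy.1).apply_symm_apply
        ((ρ g - 1).codRestrict (span F {x}) key v))
      change f v • x = ρ g v - v at this
      rw [this, one_smul, add_sub_cancel]
    apply h.hi
    ext v
    by_contra hne
    refine h.ncc ⟨g, 1, x, f, h.xy.1, fun e => hne ?_, hf⟩
    rw [hf v, e, map_one]
    simp
  · push Not at hS
    have key : ∀ b ∈ W x y, b ∉ span F {x} → ∃ t : F, ρ g b = t • b := by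
      intro b hb hb'
      have i0 : Ind2 F b x := by
        refine ⟨fun e => hb' (e ▸ zero_mem _), fun e => hb' ?_⟩
        obtain ⟨a, ha⟩ := mem_span_singleton.1 e
        have ha0 : a ≠ 0 := by
          rintro rfl
          exact h.xy.1 (by simpa using ha.symm)
        exact mem_span_singleton.2 ⟨a⁻¹, by rw [← ha, smul_smul, inv_mul_cancel₀ ha0, one_smul]⟩
      obtain ⟨n, hn, n1, -⟩ := h.mv0 hb hx0 hx0 hy0 i0 h.xy
      obtain ⟨w, hw, hw0⟩ := Submodule.exists_mem_ne_zero_of_ne_bot h.c0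
      have i1 := h.ind hw hw0
      obtain ⟨v, hv, hv'⟩ := h.third i1
      obtain ⟨β, hβ, γ, hγ, rfl⟩ := h.dec v
      have hβ' : β ∈ span F {x} := by
        by_contra hn'
        exact hS β hβ hn' w hw hw0 γ hγ hv
      have hγ' : γ ∈ W x w := by
        have := sub_mem hv ((span_singleton_le_iff_mem x _).2 (h.ws.left _ _ i1) hβ')
        rwa [add_sub_cancel_left] at this
      have i2 : Ind2 F w γ := ⟨hw0, fun e => hv' (add_mem (span_mono (by simp) hβ') (span_mono (by simp) e))⟩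
      have e1 := h.sp x w w γ i1 i2 (h.ws.right _ _ i1) hγ'
      have hC' : ∀ u ∈ C, ρ (n * (g * n⁻¹)) u = u := by
        intro u hu
        rw [app_mul, app_mul, hC _ ((((NN ρ (W x y) C z).inv_mem hn).1.2 u).1 hu), app_inv']
      have h1 : ρ (n * (g * n⁻¹)) x ∈ W x w := by
        have := h.ws.equi (n * (g * n⁻¹)) w γ i2
        rw [hC' w hw, hC' γ hγ, e1] at this
        rw [this]
        exact ⟨x, h.ws.left _ _ i1, rfl⟩
      rw [app_mul, app_mul, ← n1, app_inv, n1] at h1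
      obtain ⟨t, ht⟩ := mem_span_singleton.1 (h.inter hw hw0 h1 ((hn.1.1 _).1 (hB b hb)))
      refine ⟨t, ?_⟩
      rw [← app_inv (ρ := ρ) n (ρ g b), ← ht, ← n1, map_smul, app_inv]
    apply h.hi
    ext v
    obtain ⟨b, hb, u, hu, rfl⟩ := h.dec v
    rw [map_add, hC u hu, map_one, Module.End.one_apply, add_left_inj]
    by_cases hb' : b ∈ span F {x}
    · obtain ⟨a, rfl⟩ := mem_span_singleton.1 hb'
      rw [map_smul, hx]
    obtain ⟨t, ht⟩ := key b hb hb'
    obtain ⟨t', ht'⟩ := key (b + (1 : F) • x) (add_mem hb (smul_mem _ _ hx0))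
      (ind2_add ⟨h.xy.1, hb'⟩ 1).2
    rw [map_add, map_smul, hx, ht] at ht'
    have h1 : (t - t') • b = (t' - 1) • x := by
      rw [← sub_eq_zero, ← sub_eq_zero.2 ht']; module
    have h2 : t - t' = 0 := by
      by_contra h3
      exact hb' ((Submodule.smul_mem_iff _ h3).1 (h1 ▸ smul_mem _ _ (mem_span_singleton_self x)))
    rw [h2, zero_smul] at h1
    have h3 := (smul_eq_zero.1 h1.symm).resolve_right h.xy.1
    rw [ht, sub_eq_zero.1 h2, sub_eq_zero.1 h3, one_smul]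

theorem Hy.pel (h : Hy ρ c W x y C z r) {p : ℕ} [Fact p.Prime] [CharP F p] {m : G}
    (hm : m ∈ NN ρ (W x y) C z) (hx : ρ m x = x) (hc : Commute m z) (hp : m ^ p = 1) : m = 1 := by
  have hR : IsPGroup p (Subgroup.zpowers m) := by
    have h1 : orderOf m ∣ p ^ 1 := by rw [pow_one]; exact orderOf_dvd_of_pow_eq_one hp
    obtain ⟨i, -, hi⟩ := (Nat.dvd_prime_pow (Fact.out : p.Prime)).1 h1
    exact IsPGroup.of_card (n := i) (by rw [Nat.card_zpowers, hi])
  have hle : Subgroup.zpowers m ≤ NN ρ (W x y) C z := Subgroup.zpowers_le.2 hm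
  obtain ⟨v, hv, hv0, hvf⟩ := exists_fix hR C (fun g hg v hv => ((hle hg).1.2 v).1 hv) h.c0
  rcases h.fr.irr (C ⊓ LinearMap.ker (ρ m - 1)) inf_le_left (fun u hu => ⟨h.fr.inv u hu.1, by
      have h1 : ρ m u = u := by simpa [sub_eq_zero] using hu.2
      simp only [SetLike.mem_coe, LinearMap.mem_ker, LinearMap.sub_apply, Module.End.one_apply]
      rw [← app_mul, hc.eq, app_mul, h1, sub_self]⟩) with e | e
  · exact absurd (e.le ⟨hv, by simp [hvf m (Subgroup.mem_zpowers m)]⟩) hv0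
  · exact h.triv (fun v hv => (hm.1.1 v).1 hv) hx
      fun u hu => by simpa [sub_eq_zero] using (e.ge hu).2

theorem Hy.mtriv (h : Hy ρ c W x y C z r) {m : G} (hm : m ∈ NN ρ (W x y) C z) (hx : ρ m x = x)
    (hc : Commute m z) : ∀ v ∈ W x y, ρ m v = v := by
  let M : Subgroup G := NN ρ (W x y) C z ⊓ ptS ρ (span F {x}) ⊓ Subgroup.centralizer {z}
  have hM : ∀ g, g ∈ M ↔ g ∈ NN ρ (W x y) C z ∧ ρ g x = x ∧ Commute g z := by
    intro g
    constructor
    · rintro ⟨⟨h1, h2⟩, h3⟩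
      exact ⟨h1, h2 x (mem_span_singleton_self x), (h3 z rfl).symm⟩
    · rintro ⟨h1, h2, h3⟩
      refine ⟨⟨h1, fun v hv => ?_⟩, ?_⟩
      · obtain ⟨a, rfl⟩ := mem_span_singleton.1 hv
        rw [map_smul, h2]
      · rintro _ rfl
        exact h3.symm
  obtain ⟨p, hp⟩ := CharP.exists F
  haveI : Fact p.Prime := ⟨CharP.char_is_prime F p⟩
  have h0 : (Nat.card M : F) ≠ 0 := by
    intro e
    obtain ⟨g, hg⟩ := exists_prime_orderOf_dvd_card' (G := M) p ((CharP.cast_eq_zero_iff F p _).1 e)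
    obtain ⟨g1, g2, g3⟩ := (hM g.1).1 g.2
    have h1 : orderOf g.1 = p := by rw [Subgroup.orderOf_coe, hg]
    have h2 := h.pel (p := p) g1 g2 g3 (h1 ▸ pow_orderOf_eq_one _)
    rw [h2, orderOf_one] at h1
    exact (Fact.out : p.Prime).one_lt.ne h1
  have hco := compl_cmS (ρ := ρ) h0
  have hx0 := h.ws.left x y h.xy
  have hxf : ∀ u ∈ span F {x}, u ∈ cmS ρ M → u = 0 := fun u hu hu' =>
    (disjoint_def.1 hco.disjoint) u (fun g hg => hg.1.2 u hu) hu'
  intro v hv
  by_contra hne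
  have h1 : ρ m v - v ∈ cmS ρ M := subset_span ⟨m, (hM m).2 ⟨hm, hx, hc⟩, v, rfl⟩
  have h2 : ρ m v - v ∈ W x y := sub_mem ((hm.1.1 v).1 hv) hv
  have h3 : ρ m v - v ∉ span F {x} := fun e => hne (sub_eq_zero.1 (hxf _ e h1))
  generalize ρ m v - v = u at h1 h2 h3
  obtain ⟨n, hn, n1, a, ha0, n2⟩ := h.mv0 hx0 h2 hx0 (add_mem h2 (smul_mem _ (1 : F) hx0))
    ⟨h.xy.1, h3⟩ (ind2_add ⟨h.xy.1, h3⟩ 1)
  have h4 : ρ n u ∈ cmS ρ M := by
    refine cmS_inv (fun g hg => ?_) h1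
    obtain ⟨g1, g2, g3⟩ := (hM g).1 hg
    refine (hM _).2 ⟨Subgroup.mul_mem _ (Subgroup.mul_mem _ hn g1) (Subgroup.inv_mem _ hn), ?_, ?_⟩
    · rw [app_mul, app_mul, ← n1, app_inv, g2]
    · obtain ⟨i, hi⟩ := NN.conj (Subgroup.inv_mem _ hn)
      simp only [inv_inv] at hi
      have e := (g3.zpow_right i).eq
      rw [hi] at e
      change _ * _ = _ * _
      calc n * g * n⁻¹ * z = n * (g * (n⁻¹ * z * n)) * n⁻¹ := by group
        _ = n * (n⁻¹ * z * n * g) * n⁻¹ := by rw [e]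
        _ = _ := by group
  rw [n2, Submodule.smul_mem_iff _ ha0, one_smul] at h4
  have h5 := sub_mem h4 h1
  rw [add_sub_cancel_left] at h5
  exact h.xy.1 (hxf x (mem_span_singleton_self x) h5)

theorem Hy.comm (h : Hy ρ c W x y C z r) {g k : G} (hg : g ∈ NN ρ (W x y) C z)
    (hk : k ∈ NN ρ (W x y) C z) (gx : ρ g x = x) (kx : ρ k x = x) :
    ∀ v ∈ W x y, ρ g (ρ k v) = ρ k (ρ g v) := by
  have hkg := Subgroup.mul_mem _ hk hg
  have hm := Subgroup.mul_mem _ (Subgroup.inv_mem _ hkg) (Subgroup.mul_mem _ hg hk)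
  have hc : Commute ((k * g)⁻¹ * (g * k)) z := by
    obtain ⟨i, hi⟩ := NN.conj hg
    obtain ⟨j, hj⟩ := NN.conj hk
    simp only at hi hj
    have h1 : g * k * z * (g * k)⁻¹ = z ^ (i * j) := by
      calc g * k * z * (g * k)⁻¹ = g * (k * z * k⁻¹) * g⁻¹ := by group
        _ = z ^ (i * j) := by rw [← hj, ← conj_zpow, ← hi, zpow_mul]
    have h2 : k * g * z * (k * g)⁻¹ = z ^ (i * j) := by
      calc k * g * z * (k * g)⁻¹ = k * (g * z * g⁻¹) * k⁻¹ := by group
        _ = z ^ (i * j) := by rw [← hi, ← conj_zpow, ← hj, mul_comm i j, zpow_mul]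
    change _ * _ = _ * _
    calc (k * g)⁻¹ * (g * k) * z = (k * g)⁻¹ * (g * k * z * (g * k)⁻¹) * (g * k) := by group
      _ = (k * g)⁻¹ * (k * g * z * (k * g)⁻¹) * (g * k) := by rw [h1, h2]
      _ = _ := by group
  have hx : ρ ((k * g)⁻¹ * (g * k)) x = x := by
    have e : ρ (k * g) x = x := by rw [app_mul, gx, kx]
    rw [app_mul, app_mul g, kx, gx]
    conv_lhs => rw [← e]
    rw [app_inv]
  intro v hv
  have h1 := h.mtriv hm hx hc v hv
  have h2 := congrArg (ρ (k * g)) h1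
  rwa [app_mul (k * g)⁻¹, app_inv', app_mul, app_mul] at h2

theorem Hy.false (h : Hy ρ c W x y C z r) : False := by
  have hx0 := h.ws.left x y h.xy
  have hy0 := h.ws.right x y h.xy
  obtain ⟨g, hg, g1, a, ha0, g2⟩ := h.mv0 hx0 hy0 hx0 (add_mem hy0 (smul_mem _ (1 : F) hx0))
    h.xy (ind2_add h.xy 1)
  have key : ∀ u ∈ W x y, u ∉ span F {x} → ∃ t : F, t ≠ 0 ∧ ρ g u = a • u + (a * t) • x := by
    intro u hu hu'
    obtain ⟨k, hk, k1, t, ht0, k2⟩ := h.mv0 hx0 hy0 hx0 hu h.xy ⟨h.xy.1, hu'⟩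
    have h1 := h.comm hg hk g1 k1 y hy0
    rw [k2, g2] at h1
    simp only [map_smul, map_add, k1, k2] at h1
    refine ⟨t⁻¹, inv_ne_zero ht0, ?_⟩
    have h2 : ρ g u = t⁻¹ • (t • ρ g u) := by rw [smul_smul, inv_mul_cancel₀ ht0, one_smul]
    rw [h2, h1]
    match_scalars <;> field_simp
  obtain ⟨v, hv, hv'⟩ := h.third h.xy
  obtain ⟨t, ht0, ht⟩ := key v hv fun e => hv' (span_mono (by simp) e)
  obtain ⟨s, hs0, hs⟩ := key (v - t • y) (sub_mem hv (smul_mem _ _ hy0)) fun e => hv' (by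
    have := add_mem (span_mono (show ({x} : Set V) ⊆ {x, y} by simp) e)
      (smul_mem _ t (subset_span (show y ∈ ({x, y} : Set V) by simp)))
    rwa [sub_add_cancel] at this)
  rw [map_sub, map_smul, ht, g2] at hs
  have h1 : (a * s) • x = 0 := by
    rw [← sub_eq_zero.2 hs.symm]; module
  exact mul_ne_zero ha0 hs0 ((smul_eq_zero.1 h1).resolve_right h.xy.1)

end Sp3

variable {F V V' G : Type*} [Field F] [Fintype F] [AddCommGroup V] [Module F V] [Module.Finite F V]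
  [AddCommGroup V'] [Module F V'] [Module.Finite F V'] [Group G] [Finite G]
  {ρ : Representation F G V} {ρ' : Representation F G V'} {B : V →ₗ[F] V' →ₗ[F] F}

theorem sp' (h : Ctx ρ ρ' B) (hi : Function.Injective ρ) (h2 : T2 ρ) {c : ℕ} {W : V → V → Submodule F V}
    (hW : WS ρ c W) (hs : Spread F W) (hodd : Odd (finrank F V)) {r : ℕ} (hr : r.Prime)
    (hq : IsPrimitiveRoot (Fintype.card F : ZMod r) c) {x y : V} (hxy : Ind2 F x y) {C : Submodule F V} {z : G}
    (hz : FRD ρ (W x y) C z r) : CC ρ := by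
  by_cases hk : finrank F V = c + 2
  · exact sp2 h hi h2 hW hodd hr hq hxy hz hk
  by_contra hn
  have h1 := hW.rank x y hxy
  have hc := hW.c_pos
  have h3 : 2 ≤ finrank F (W x y) := by
    rw [← Fr.finrank_pair hxy]
    refine Submodule.finrank_mono ?_
    rw [span_le]
    rintro v (rfl | rfl)
    · exact hW.left _ _ hxy
    · exact hW.right _ _ hxy
  refine Sp3.Hy.false (ρ := ρ) ⟨hi, h2, hW, hs, hxy, hz, hn, ?_, by omega⟩
  rintro rfl
  have := Submodule.finrank_add_eq_of_isCompl hz.compl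
  rw [finrank_bot] at this
  omega

end Cfsg.Agent.Sg
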