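import Cfsg.Agent.Sg.Defs
import Cfsg.Agent.H4.CAChar

set_option autoImplicit false
open Module Submodule

namespace Cfsg.Agent.Sg

open H4.CABasic

namespace Fb

theorem top {H Ω : Type*} [Group H] [Finite H] [Fintype Ω] [MulAction H Ω] {A : Subgroup H}
    (hA : IsCA A) {d f : ℕ} (hs : ∀ s ∈ A, s ≠ 1 → ∀ x : Ω, s • x ≠ x)
    (hΩ : Fintype.card Ω = d * Nat.card A)
    (hf : ∀ g : H, g ≠ 1 → Nat.card {x : Ω // g • x = x} ≤ f) (hfd : f + d ≤ Nat.card A)
    (hd : d ≠ 0) (h2 : Subgroup.normalizer (A : Set H) = A) : A = ⊤ := by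
  classical
  have := Fintype.ofFinite H
  by_contra hne
  have hc := hA.card_conjs
  rw [h2] at hc
  have hm := A.card_mul_index
  have h1 := hA.one_lt_card
  set Q : Finset H := ((conjs A)ᶜ).erase 1 with hQ
  have hQc : Q.card + 1 + (conjs A).card = Nat.card H := by
    rw [hQ, Finset.card_erase_add_one (Finset.mem_compl.mpr (one_notMem_conjs A)),
      Finset.card_compl_add_card, Nat.card_eq_fintype_card]
  have hc' : (conjs A).card = A.index * (Nat.card A - 1) := by
    apply Nat.eq_of_mul_eq_mul_left (by omega : 0 < Nat.card A)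
    rw [hc, ← hm, mul_assoc]
  have hQm : Q.card + 1 = A.index := by
    obtain ⟨k, hk⟩ : ∃ k, Nat.card A = k + 1 := ⟨Nat.card A - 1, by omega⟩
    rw [hc', ← hm, hk] at hQc
    simp only [add_tsub_cancel_right] at hQc
    nlinarith
  have hi : A.index ≠ 1 := fun e => hne (Subgroup.index_eq_one.mp e)
  obtain ⟨y, hy⟩ : Q.Nonempty := Finset.card_pos.mp (by omega)
  have hmem : ∀ x, x ∈ Q ↔ x ≠ 1 ∧ x ∉ conjs A := fun x => by simp [hQ]
  obtain ⟨hy1, hy2⟩ := (hmem y).mp hy
  have hle : Nat.card A ≤ Q.card := by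
    rw [← Fintype.card_coe Q, ← Nat.card_eq_fintype_card]
    refine Nat.card_le_card_of_injective
      (fun a : A => (⟨a * y * a⁻¹, (hmem _).mpr ⟨by simpa using hy1, fun h => hy2 ?_⟩⟩ : Q)) ?_
    · obtain ⟨z, b, hb, hb1, e⟩ := mem_conjs.mp h
      exact mem_conjs.mpr ⟨(a : H)⁻¹ * z, b, hb, hb1, by
        calc y = (a : H)⁻¹ * (a * y * a⁻¹) * a := by simp [mul_assoc]
          _ = _ := by rw [e]; group⟩
    · intro a b e
      have e' : (a : H) * y * a⁻¹ = b * y * b⁻¹ := congrArg Subtype.val e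
      by_contra hab
      have h3 : ((b⁻¹ * a : A) : H) ≠ 1 := fun h => hab (by
        have : b⁻¹ * a = 1 := Subtype.ext h
        exact (inv_mul_eq_one.mp this).symm)
      have h4 := (hA.cent _ (b⁻¹ * a).2 h3 y).mp (by
        simp only [Subgroup.coe_mul, Subgroup.coe_inv] at e' ⊢
        calc y * ((b : H)⁻¹ * a) = (b : H)⁻¹ * (b * y * (b : H)⁻¹) * a := by group
          _ = _ := by rw [← e']; group)
      exact hy2 (mem_conjs.mpr ⟨1, y, h4, hy1, by simp⟩)
  have hΩ0 : Nonempty Ω := Fintype.card_pos_iff.mp (by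
    rw [hΩ]; exact Nat.mul_pos (by omega) (by omega))
  have hB := MulAction.sum_card_fixedBy_eq_card_orbits_mul_card_group H Ω
  have h5 : Nat.card H ≤ ∑ g : H, Fintype.card (MulAction.fixedBy Ω g) := by
    rw [hB, Nat.card_eq_fintype_card]
    obtain ⟨x⟩ := hΩ0
    exact Nat.le_mul_of_pos_left _ (Fintype.card_pos_iff.mpr ⟨Quotient.mk _ x⟩)
  have h6 : ∑ g : H, Fintype.card (MulAction.fixedBy Ω g) ≤
      ∑ g : H, ((if g = 1 then Fintype.card Ω else 0) + if g ∈ Q then f else 0) := by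
    refine Finset.sum_le_sum fun g _ => ?_
    by_cases h1 : g = 1
    · rw [if_pos h1]
      exact le_add_right (Fintype.card_subtype_le _)
    by_cases h2 : g ∈ Q
    · rw [if_neg h1, if_pos h2, zero_add, ← Nat.card_eq_fintype_card]
      exact hf g h1
    · have h3 : g ∈ conjs A := by
        by_contra h3
        exact h2 ((hmem g).mpr ⟨h1, h3⟩)
      obtain ⟨z, b, hb, hb1, rfl⟩ := mem_conjs.mp h3
      refine le_trans (Fintype.card_eq_zero_iff.mpr
        ⟨fun x : MulAction.fixedBy Ω (z * b * z⁻¹) => hs b hb hb1 (z⁻¹ • (x : Ω)) ?_⟩).le (Nat.zero_le _)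
      have : (z * b * z⁻¹) • (x : Ω) = x := x.2
      rw [mul_smul, mul_smul] at this
      rw [eq_inv_smul_iff, this]
  rw [Finset.sum_add_distrib, Finset.sum_ite_eq', if_pos (Finset.mem_univ _), Finset.sum_ite_mem,
    Finset.univ_inter, Finset.sum_const, smul_eq_mul, hΩ] at h6
  rw [← hm, ← hQm] at h5
  nlinarith

end Fb

theorem fb {H Ω : Type*} [Group H] [Finite H] [Fintype Ω] [MulAction H Ω] {A : Subgroup H}
    (hA : H4.CABasic.IsCA A) {d f : ℕ}
    (hs : ∀ s ∈ A, s ≠ 1 → ∀ x : Ω, s • x ≠ x) (hΩ : Fintype.card Ω = d * Nat.card A)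
    (hf : ∀ g : H, g ≠ 1 → Nat.card {x : Ω // g • x = x} ≤ f) (hfd : f + d ≤ Nat.card A)
    (hd : d ≠ 0)
    {K0 : Subgroup H} (hn : K0.Normal) (h1 : A ≤ K0)
    (h2 : K0 ⊓ Subgroup.normalizer (A : Set H) = A) : A.Normal := by
  have hc : Nat.card (A.subgroupOf K0) = Nat.card A :=
    Nat.card_congr (Subgroup.subgroupOfEquivOfLe h1).toEquiv
  have hA' : IsCA (A.subgroupOf K0) :=
    ⟨fun e => by have := hA.one_lt_card; rw [← hc, e, Subgroup.card_bot] at this; omega,
      fun a ha ha1 g => by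
        rw [Subgroup.mem_subgroupOf, ← hA.cent a ha (fun e => ha1 (Subtype.ext e)),
          Subtype.ext_iff]; rfl⟩
  have := Fb.top (Ω := Ω) hA' (d := d) (f := f)
    (fun s h h' x => hs s h (fun e => h' (Subtype.ext e)) x) (hc ▸ hΩ)
    (fun g hg => hf g fun e => hg (Subtype.ext e)) (hc ▸ hfd) hd (by
      refine le_antisymm (fun g hg => ?_) Subgroup.le_normalizer
      obtain ⟨a, ha, ha1⟩ := (A.subgroupOf K0).bot_or_exists_ne_one.resolve_left hA'.ne_bot
      have h3 := (Subgroup.mem_normalizer_iff.mp hg a).mp ha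
      have h4 := hA.mem_norm (y := g) (a := a) ha (fun e => ha1 (Subtype.ext e)) h3
      rw [Subgroup.mem_subgroupOf, ← h2]
      exact ⟨g.2, h4⟩)
  rwa [le_antisymm h1 (Subgroup.subgroupOf_eq_top.mp this)]

end Cfsg.Agent.Sg
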